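import Cfsg.Agent.H58.TCPres

set_option autoImplicit false
set_option maxRecDepth 100000

namespace Cfsg.Agent.H96.T24g

open Cfsg.Agent.H58

noncomputable def tb0 : Nat → Nat := (lf (nat_lit 0x3000000c000002c00000b000002800000a00000240000090000020000008000001c0000070000018000006000003000000c000002400000900000000001000000420000108000042400000900000200000080000500000000000051c000147000041c000107000043000000c000002c00000b0000000000040000002800000a000052800014a000042800010a000043000004c000012800004a0000100000080000011800004600005200000080000018000006000001c000007000000000034000000000001800000d000001800000c000001800000b000001800000a0000018000006000002400000504000141000040400010100002040000810000d1c0003470000c1c0003070000b1c0002c70000a1c000287000091c000247000061c000187000090400018100006000001c0000061800018600005180001460000418000106000043000008c000021800008600002000000c0000021400008500001140000450000104000041000060800018200007080001c20000a040002810000b040002c10000c0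4000301000060c000183000070c0001c3000090c0002430000b080002c20000c08000302000061000018400007100001c400009100002440000a100002840000c0c00030300003140000c500004140001050000514000145000061400018500007140001c500009140002450000a140002850000b140002c500007180001c600009040001c100008000001c000009180002460000a180002860000b180002c60000c180003060000d100003440000d0c0003430000d080003420000d0400034100000180003460000000000000000000000000000000000000000000000000000000000000000000000000000000000000000000000000000000000000000000000000000000000000000000000000000000000000000000000000000003800000d00000140000050000010000004000000c000003000000800000200000040000010000d140003050000c100002c40000b0c0002830000a08000242000090400020100008180001c6000071c0001870000620000148000052400010900004300000cc0000318000086000022800004a000012c00000b))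
noncomputable def rk0 : Nat → Nat := (lf (nat_lit 0xd0000c0000b0000a00009000080000700006000050000400003000020000100000))
noncomputable def st0 : Nat → Nat := (nd (nat_lit 1) (lf (nat_lit 0x330000010000ce060001880001c800063030000d8000004000368180002200000200008c0c00031000060000002000184000318280005c0000020001740c0002c00002d0000b20600018800000800063030000300000040000c818000580000020001640c0002a00005200000200014c0002a8280004e00004200013c0c0002f0000010000be060001680000080005b030000ac0000040002b8180005200000200014c0c00004000001000012060001200000080004903000088000004000228180004000007c00003c0001f8000410500000400011c08000000000420200008400010000000800041040000780000040001e818000380000020000e40c0001a00000100006a060000c0000040000270000120000c4140000300002700000e06000010000138000050300000400009c000018180000000004e0000040c000138000290000560000b4000178000310000660000d40001b8000390000760000f40001f80001a0e)) (nd (nat_lit 2) (lf (nat_lit 0xa00009800002018000010000280000000c00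001800000020000420000000003b018000550000000002700c00021800000000138060000dc0000000009c030000560000040004e0180001300014600000400051020000a30000020002880c0000c80000100003006000294000108000a40300011a000004000460180008d0000020002300c00046800001000118060002340000080008c03000006000004000010180000300011e04000004000220100008b0000020002280002080008b0000020c00022c0000080008a0300011600000400045018000010000040000000c0000180008802000002000224080004380000100010c000094000438000010600010e00000400043018000870000c80002180c0004280006a000108060001d800000800077030000580001b80000080006f00005a0a0001a80000080006b03)) (lf (nat_lit 0x68080001f010000420200002404000078080002d010000520200000c000088100000100000a0400000c0000280000200000200000c000028300000b0000060000280c000010000d50200000000006c080000c0000010000320000740000c0000010600019e00000400067018000010000300000000c0000180000a02000002000344080006780000100019c000024000678000010600001800000400006818000c30000020003080c000008000020000000600000c0001b0100000100018604000304000008000c000006a00030400000830000c10000060003000c000038000b502))))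
def iv : Nat := 255745302596655385959735360

def rels : List (List Nat) := [[1, 2, 1, 2, 1, 2],
  [1, 3, 1, 3],
  [1, 4, 1, 4],
  [1, 5, 1, 5],
  [1, 6, 1, 6],
  [1, 7, 1, 7],
  [1, 8, 1, 8],
  [1, 9, 1, 9],
  [1, 10, 1, 10],
  [1, 11, 1, 11],
  [1, 12, 1, 12],
  [2, 3, 2, 3, 2, 3],
  [2, 4, 2, 4],
  [2, 5, 2, 5],
  [2, 6, 2, 6],
  [2, 7, 2, 7],
  [2, 8, 2, 8],
  [2, 9, 2, 9],
  [2, 10, 2, 10],
  [2, 11, 2, 11],
  [2, 12, 2, 12],
  [3, 4, 3, 4, 3, 4],
  [3, 5, 3, 5],
  [3, 6, 3, 6],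
  [3, 7, 3, 7],
  [3, 8, 3, 8],
  [3, 9, 3, 9],
  [3, 10, 3, 10],
  [3, 11, 3, 11],
  [3, 12, 3, 12],
  [4, 5, 4, 5, 4, 5],
  [4, 6, 4, 6],
  [4, 7, 4, 7],
  [4, 8, 4, 8],
  [4, 9, 4, 9],
  [4, 10, 4, 10],
  [4, 11, 4, 11],
  [4, 12, 4, 12],
  [5, 6, 5, 6, 5, 6],
  [5, 7, 5, 7],
  [5, 8, 5, 8],
  [5, 9, 5, 9],
  [5, 10, 5, 10],
  [5, 11, 5, 11],
  [5, 12, 5, 12],
  [6, 7, 6, 7, 6, 7],
  [6, 8, 6, 8],
  [6, 9, 6, 9],
  [6, 10, 6, 10, 6, 10],
  [6, 11, 6, 11],
  [6, 12, 6, 12],
  [7, 8, 7, 8, 7, 8],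
  [7, 9, 7, 9],
  [7, 10, 7, 10],
  [7, 11, 7, 11],
  [7, 12, 7, 12],
  [8, 9, 8, 9, 8, 9],
  [8, 10, 8, 10],
  [8, 11, 8, 11],
  [8, 12, 8, 12],
  [9, 10, 9, 10],
  [9, 11, 9, 11],
  [9, 12, 9, 12, 9, 12],
  [10, 11, 10, 11, 10, 11],
  [10, 12, 10, 12],
  [11, 12, 11, 12],
  [6, 5, 4, 6, 7, 8, 6, 10, 11, 6, 5, 4, 6, 7, 8, 6, 10, 11, 6, 5, 4, 6, 7, 8, 6, 10, 11, 6, 5, 4, 6, 7, 8, 6, 10, 11, 6, 5, 4, 6, 7, 8, 6, 10, 11, 6, 5, 4, 6, 7, 8, 6, 10, 11, 6, 5, 4, 6, 7, 8, 6, 10, 11, 6, 5, 4, 6, 7, 8, 6, 10, 11, 6, 5, 4, 6, 7, 8, 6, 10, 11, 6, 5, 4, 6, 7, 8, 6, 10, 11],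
  [3, 4, 5, 6, 7, 8, 10, 3, 4, 5, 6, 7, 8, 10, 3, 4, 5, 6, 7, 8, 10, 3, 4, 5, 6, 7, 8, 10, 3, 4, 5, 6, 7, 8, 10, 3, 4, 5, 6, 7, 8, 10, 3, 4, 5, 6, 7, 8, 10, 3, 4, 5, 6, 7, 8, 10, 3, 4, 5, 6, 7, 8, 10, 1],
  [2, 3, 4, 5, 6, 10, 11, 7, 6, 10, 8, 9, 7, 8, 5, 6, 7, 4, 5, 6, 10, 11, 8, 6, 7, 4, 5, 6, 10, 12, 9, 8, 7, 6, 5, 4, 3, 4, 5, 6, 7, 8, 9, 12, 10, 6, 5, 4, 7, 6, 8, 11, 10, 6, 5, 4, 7, 6, 5, 8, 7, 9, 8, 10, 6, 7, 11, 10, 6, 5, 4, 3, 2, 3, 4, 5, 6, 10, 11, 7, 6, 10, 8, 9, 7, 8, 5, 6, 7, 4, 5, 6, 10, 11, 8, 6, 7, 4, 5, 6, 10, 12, 9, 8, 7, 6, 5, 4, 3, 4, 5, 6, 7, 8, 9, 12, 10, 6, 5, 4, 7, 6, 8, 11, 10, 6, 5, 4, 7, 6, 5, 8, 7, 9, 8, 10, 6, 7, 11, 10, 6, 5, 4, 3],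
  [14, 6, 5, 4, 3, 2, 1, 6, 7, 8, 9, 12, 6, 10, 11]]

noncomputable def tbl : Nat → Nat := (nd (nat_lit 1) tb0 (lf (nat_lit 0)))
noncomputable def rnk : Nat → Nat := (nd (nat_lit 1) rk0 (lf (nat_lit 0)))
noncomputable def str : Nat → Nat := (nd (nat_lit 3) st0 (lf (nat_lit 0)))
noncomputable def clo : Nat → Nat := (lf (nat_lit 0))
def tree : ST := (ST.node (ST.node (ST.node (ST.node (ST.node (ST.node (ST.node ST.nil (nat_lit 1) (nat_lit 0) (nat_lit 0) ST.nil) (nat_lit 4161) (nat_lit 0) (nat_lit 1) ST.nil) (nat_lit 4226) (nat_lit 0) (nat_lit 2) (ST.node ST.nil (nat_lit 4291) (nat_lit 0) (nat_lit 3) ST.nil)) (nat_lit 4356) (nat_lit 0) (nat_lit 4) (ST.node (ST.node (ST.node ST.nil (nat_lit 4421) (nat_lit 0) (nat_lit 5) ST.nil) (nat_lit 4486) (nat_lit 0) (nat_lit 6) ST.nil) (nat_lit 4551) (nat_lit 0) (nat_lit 7) (ST.node ST.nil (nat_lit 4616) (nat_lit 0) (nat_lit 8) ST.nil))) (nat_lit 4681) (nat_lit 0) (nat_lit 9) (ST.node (ST.node (ST.node (ST.node ST.nil (nat_lit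 4746) (nat_lit 0) (nat_lit 10) ST.nil) (nat_lit 4811) (nat_lit 0) (nat_lit 11) ST.nil) (nat_lit 4876) (nat_lit 0) (nat_lit 12) (ST.node ST.nil (nat_lit 17051715) (nat_lit 4) (nat_lit 2) ST.nil)) (nat_lit 17055812) (nat_lit 6) (nat_lit 2) (ST.node (ST.node ST.nil (nat_lit 17059909) (nat_lit 8) (nat_lit 2) ST.nil) (nat_lit 17064006) (nat_lit 10) (nat_lit 2) (ST.node ST.nil (nat_lit 17068103) (nat_lit 12) (nat_lit 2) ST.nil)))) (nat_lit 17318020) (nat_lit 26) (nat_lit 2) (ST.node (ST.node (ST.node (ST.node (ST.node ST.nil (nat_lit 17322117) (nat_lit 28) (nat_lit 2) ST.nil) (nat_lit 17326214) (nat_lit 30) (nat_lit 2) ST.nil) (nat_lit 17330311) (nat_lit 32) (nat_lit 2) (ST.node ST.nil (nat_lit 17567937) (nat_lit 4) (nat_lit 3) ST.nil)) (nat_lit 17584325) (nat_lit 46) (nat_lit 2) (ST.node (ST.node ST.nil (nat_lit 17588422) (nat_lit 48) (nat_lit 2) ST.nil) (nat_lit 17592519) (nat_lit 50) (nat_lit 2) (ST.node ST.nil (nat_lit 17830145) (nat_lit 6) (nat_lit 3) ST.nil))) (nat_lit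 17834242) (nat_lit 26) (nat_lit 3) (ST.node (ST.node (ST.node (ST.node ST.nil (nat_lit 17850630) (nat_lit 64) (nat_lit 2) ST.nil) (nat_lit 17854727) (nat_lit 66) (nat_lit 2) ST.nil) (nat_lit 18092353) (nat_lit 8) (nat_lit 3) (ST.node ST.nil (nat_lit 18096450) (nat_lit 28) (nat_lit 3) ST.nil)) (nat_lit 18100547) (nat_lit 46) (nat_lit 3) (ST.node (ST.node ST.nil (nat_lit 18116935) (nat_lit 80) (nat_lit 2) ST.nil) (nat_lit 18354561) (nat_lit 10) (nat_lit 3) (ST.node ST.nil (nat_lit 18358658) (nat_lit 30) (nat_lit 3) ST.nil))))) (nat_lit 18362755) (nat_lit 48) (nat_lit 3) (ST.node (ST.node (ST.node (ST.node (ST.node (ST.node ST.nil (nat_lit 18366852) (nat_lit 64) (nat_lit 3) ST.nil) (nat_lit 18620866) (nat_lit 32) (nat_lit 3) ST.nil) (nat_lit 18624963) (nat_lit 50) (nat_lit 3) (ST.node ST.nil (nat_lit 18629060) (nat_lit 66) (nat_lit 3) ST.nil)) (nat_lit 18633157) (nat_lit 80) (nat_lit 3) (ST.node (ST.node (ST.node ST.nil (nat_lit 18878977) (nat_lit 14) (nat_lit 3) ST.nil)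 (nat_lit 18895365) (nat_lit 82) (nat_lit 3) ST.nil) (nat_lit 18899462) (nat_lit 94) (nat_lit 3) (ST.node ST.nil (nat_lit 18915850) (nat_lit 116) (nat_lit 2) ST.nil))) (nat_lit 19141185) (nat_lit 16) (nat_lit 3) (ST.node (ST.node (ST.node (ST.node ST.nil (nat_lit 19157573) (nat_lit 84) (nat_lit 3) ST.nil) (nat_lit 19161670) (nat_lit 96) (nat_lit 3) ST.nil) (nat_lit 19165767) (nat_lit 106) (nat_lit 3) (ST.node ST.nil (nat_lit 19178058) (nat_lit 122) (nat_lit 2) ST.nil)) (nat_lit 19403393) (nat_lit 18) (nat_lit 3) (ST.node (ST.node ST.nil (nat_lit 19419781) (nat_lit 86) (nat_lit 3) ST.nil) (nat_lit 19665601) (nat_lit 20) (nat_lit 3) (ST.node ST.nil (nat_lit 19681989) (nat_lit 88) (nat_lit 3) ST.nil)))) (nat_lit 19686086) (nat_lit 100) (nat_lit 3) (ST.node (ST.node (ST.node (ST.node (ST.node ST.nil (nat_lit 19927809) (nat_lit 22) (nat_lit 3) ST.nil) (nat_lit 19944197) (nat_lit 90) (nat_lit 3) ST.nil) (nat_lit 19948294) (nat_lit 102) (nat_lit 3) (ST.node ST.nil (nat_lit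 19952391) (nat_lit 112) (nat_lit 3) ST.nil)) (nat_lit 19956488) (nat_lit 120) (nat_lit 3) (ST.node (ST.node ST.nil (nat_lit 19964682) (nat_lit 130) (nat_lit 3) ST.nil) (nat_lit 69827043394) (nat_lit 2) (nat_lit 4) (ST.node ST.nil (nat_lit 70917828739) (nat_lit 24) (nat_lit 4) ST.nil))) (nat_lit 72008614084) (nat_lit 44) (nat_lit 4) (ST.node (ST.node (ST.node (ST.node ST.nil (nat_lit 73099399429) (nat_lit 62) (nat_lit 4) ST.nil) (nat_lit 74190184774) (nat_lit 78) (nat_lit 4) ST.nil) (nat_lit 75280970119) (nat_lit 92) (nat_lit 4) (ST.node ST.nil (nat_lit 75331314058) (nat_lit 98) (nat_lit 4) ST.nil)) (nat_lit 76371755464) (nat_lit 104) (nat_lit 4) (ST.node (ST.node ST.nil (nat_lit 77462540809) (nat_lit 114) (nat_lit 4) ST.nil) (nat_lit 79644111499) (nat_lit 128) (nat_lit 4) (ST.node ST.nil (nat_lit 1512111649269154547176849734) (nat_lit 139) (nat_lit 1) ST.nil))))))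

theorem d0 : sumPow (grd 13 (defn tbl rnk (okPair iv))) 6 0 = 0 := by decide +kernel
theorem s0 : sumPow (grd 3 (chunk tbl (okRule iv tree) str 9)) 3 0 = 0 := by decide +kernel

noncomputable def C : Cert := ⟨tbl, rnk, str, clo, tree, 13, 19, 9, 3, [1, 2, 3, 4, 5, 13]⟩

theorem good : C.Good rels iv :=
  ⟨by decide, by decide +kernel,
   all_lt_of_gblocks _ 6 13 1 (by decide) (blocks_cons (blocks_nil _) d0),
   by decide +kernel,
   all_lt_of_gblocks _ 3 3 1 (by decide) (blocks_cons (blocks_nil _) s0)⟩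

theorem goal6 {G : Type*} [Group G] {el : ℕ → G} (R : RuleOK el rels iv) (H : Subgroup G)
    (hfix : ∀ x ∈ ([1, 2, 3, 4, 5, 13] : List ℕ), el x ∈ H) : el 6 ∈ H :=
  Cert.goal_mem good R H hfix (i := 744) (by decide +kernel) (by decide +kernel)

theorem goal7 {G : Type*} [Group G] {el : ℕ → G} (R : RuleOK el rels iv) (H : Subgroup G)
    (hfix : ∀ x ∈ ([1, 2, 3, 4, 5, 13] : List ℕ), el x ∈ H) : el 7 ∈ H :=
  Cert.goal_mem good R H hfix (i := 746) (by decide +kernel) (by decide +kernel)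

theorem goal8 {G : Type*} [Group G] {el : ℕ → G} (R : RuleOK el rels iv) (H : Subgroup G)
    (hfix : ∀ x ∈ ([1, 2, 3, 4, 5, 13] : List ℕ), el x ∈ H) : el 8 ∈ H :=
  Cert.goal_mem good R H hfix (i := 748) (by decide +kernel) (by decide +kernel)

theorem goal9 {G : Type*} [Group G] {el : ℕ → G} (R : RuleOK el rels iv) (H : Subgroup G)
    (hfix : ∀ x ∈ ([1, 2, 3, 4, 5, 13] : List ℕ), el x ∈ H) : el 9 ∈ H :=
  Cert.goal_mem good R H hfix (i := 750) (by decide +kernel) (by decide +kernel)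

theorem goal10 {G : Type*} [Group G] {el : ℕ → G} (R : RuleOK el rels iv) (H : Subgroup G)
    (hfix : ∀ x ∈ ([1, 2, 3, 4, 5, 13] : List ℕ), el x ∈ H) : el 10 ∈ H :=
  Cert.goal_mem good R H hfix (i := 752) (by decide +kernel) (by decide +kernel)

theorem goal11 {G : Type*} [Group G] {el : ℕ → G} (R : RuleOK el rels iv) (H : Subgroup G)
    (hfix : ∀ x ∈ ([1, 2, 3, 4, 5, 13] : List ℕ), el x ∈ H) : el 11 ∈ H :=
  Cert.goal_mem good R H hfix (i := 754) (by decide +kernel) (by decide +kernel)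

theorem goal12 {G : Type*} [Group G] {el : ℕ → G} (R : RuleOK el rels iv) (H : Subgroup G)
    (hfix : ∀ x ∈ ([1, 2, 3, 4, 5, 13] : List ℕ), el x ∈ H) : el 12 ∈ H :=
  Cert.goal_mem good R H hfix (i := 756) (by decide +kernel) (by decide +kernel)


end Cfsg.Agent.H96.T24g
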